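import Cfsg.Agent.H89.K3Vec
import Cfsg.Agent.H4.K3Def
import Cfsg.Agent.Char.FrobTI

/-! # The contradiction in S2219 (helper89, piece CONTRA for helper4) -/

set_option autoImplicit false

namespace Cfsg.Agent.H89.K3Contra

open Cfsg Cfsg.Agent.CharBase Cfsg.Agent.H4 Cfsg.Agent.H75

universe u

variable {G : Type u} [Group G] [Finite G]

theorem lin_one [IsSimpleGroup G] (hG : ¬ IsMulCommutative G) (χ : IrrCharacter G)
    (h : deg χ = 1) : χ = oneIrr G := by
  have h1 : (χ : G → ℂ) 1 = 1 := by rw [deg_spec, h]; simp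
  have hn := charKer_normal (irr_isCharacter χ)
  rcases hn.eq_bot_or_eq_top with hb | ht
  · exfalso
    apply hG
    refine ⟨⟨fun a b => ?_⟩⟩
    have h2 : a * b * a⁻¹ * b⁻¹ ∈ charKer (irr_isCharacter χ) := by
      rw [mem_charKer, h1]
      exact linear_commutator (irr_isCharacter χ) h1 a b
    rw [hb, Subgroup.mem_bot] at h2
    have h3 : a * b * (b * a)⁻¹ = 1 := by rw [← h2]; group
    exact mul_inv_eq_one.mp h3
  · apply Subtype.ext
    funext g
    have h2 : g ∈ charKer (irr_isCharacter χ) := by rw [ht]; exact Subgroup.mem_top g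
    rw [mem_charKer, h1] at h2
    rw [h2]
    rfl

theorem half_not_integral (z : ℂ) (h : IsIntegral ℤ z) (e : ℤ) (he : e = 1 ∨ e = -1)
    (hz : 1 + 2 * (e : ℂ) * z = 0) : False := by
  have hq : z = ((-(e : ℚ) / 2 : ℚ) : ℂ) := by
    rcases he with rfl | rfl
    · push_cast at hz ⊢
      linear_combination (1 / 2) * hz
    · push_cast at hz ⊢
      linear_combination (-1 / 2) * hz
  obtain ⟨n, hn⟩ := Cfsg.Agent.Char.FT.int_of_rat_isIntegral _ hq h
  rw [hn] at hz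
  have h2 : (1 : ℤ) + 2 * e * n = 0 := by exact_mod_cast hz
  rcases he with rfl | rfl <;> omega

variable [Fintype (IrrCharacter G)] {p p' : Fin 3 → IrrCharacter G → ℤ}

theorem vsymm (V : K3.Vec p p') : K3.Vec p' p where
  gram := V.gram'
  gram' := V.gram
  cross := fun i j => by
    rw [← V.cross j i]
    exact Finset.sum_congr rfl (fun χ _ => mul_comm _ _)
  sum := fun χ => (V.sum χ).symm
  one := V.one'
  one' := V.one
  reg := V.reg'
  reg' := V.reg
  md := fun χ h => by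
    rw [← V.sum χ] at h ⊢
    exact V.md χ h

theorem rel (V : K3.Vec p p') {i : Fin 3} {x y w : IrrCharacter G} (h : T3 (p i) x y w) (g : G)
    (hg : ¬ 3 ∣ orderOf g) :
    (p i x : ℂ) * (x : G → ℂ) g + (p i y : ℂ) * (y : G → ℂ) g + (p i w : ℂ) * (w : G → ℂ) g = 0 := by
  have h1 := h.sum (fun χ : IrrCharacter G => (p i χ : ℂ) * (χ : G → ℂ) g) (fun u hu => by simp [hu])
  rw [V.reg i g hg] at h1
  exact h1.symm

theorem rel_deg (V : K3.Vec p p') {i : Fin 3} {x y w : IrrCharacter G} (h : T3 (p i) x y w) :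
    p i x * deg x + p i y * deg y + p i w * deg w = 0 := by
  have h1 := rel V h 1 (by simp)
  simp only [deg_spec] at h1
  exact_mod_cast h1

omit [Fintype (IrrCharacter G)] in
theorem deg_one : deg (oneIrr G) = 1 := by
  have h := deg_spec (oneIrr G)
  rw [oneIrr_apply] at h
  exact_mod_cast h.symm

theorem norm3 (V : K3.Vec p p') (i : Fin 3) : ∑ χ, p i χ * p i χ = 3 := by
  rw [V.gram i i]; simp

theorem orth (V : K3.Vec p p') {i j : Fin 3} (h : i ≠ j) : ∑ χ, p i χ * p j χ = 0 := by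
  rw [V.gram i j]; simp [h]

theorem third {j : Fin 3} (hj : j ≠ 0) : ∃ k : Fin 3, k ≠ 0 ∧ k ≠ j ∧ ∀ f : Fin 3 → ℤ,
    ∑ i, f i = f 0 + f j + f k := by
  fin_cases j
  · exact absurd rfl hj
  · exact ⟨2, by decide, by decide, fun f => by rw [Fin.sum_univ_three]; rfl⟩
  · refine ⟨1, by decide, by decide, fun f => ?_⟩
    rw [Fin.sum_univ_three]
    show f 0 + f 1 + f 2 = f 0 + f 2 + f 1
    ring

/-- numbers dividing `9 2^a q^b`, odd and prime to 3 -/
theorem qpow {q a b n : ℕ} (hq : q.Prime) (h2 : ¬ 2 ∣ n) (h3 : ¬ 3 ∣ n) (h : n ∣ 9 * 2 ^ a * q ^ b) :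
    ∃ j, j ≤ b ∧ n = q ^ j := by
  have hc : Nat.Coprime n (9 * 2 ^ a) := by
    apply Nat.Coprime.mul_right
    · have : Nat.Coprime n 3 := ((Nat.Prime.coprime_iff_not_dvd Nat.prime_three).2 h3).symm
      exact Nat.Coprime.pow_right 2 this
    · have : Nat.Coprime n 2 := ((Nat.Prime.coprime_iff_not_dvd Nat.prime_two).2 h2).symm
      exact Nat.Coprime.pow_right a this
  exact (Nat.dvd_prime_pow hq).1 (hc.dvd_of_dvd_mul_left h)

theorem twopow {q a b n : ℕ} (hq : q.Prime) (h2 : ¬ q ∣ n) (h3 : ¬ 3 ∣ n) (h : n ∣ 9 * 2 ^ a * q ^ b) :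
    ∃ j, n = 2 ^ j := by
  have hc : Nat.Coprime n (q ^ b) :=
    Nat.Coprime.pow_right b ((Nat.Prime.coprime_iff_not_dvd hq).2 h2).symm
  have h4 := hc.dvd_of_dvd_mul_right h
  have hc2 : Nat.Coprime n 9 := by
    have : Nat.Coprime n 3 := ((Nat.Prime.coprime_iff_not_dvd Nat.prime_three).2 h3).symm
    exact Nat.Coprime.pow_right 2 this
  obtain ⟨j, _, hj⟩ := (Nat.dvd_prime_pow Nat.prime_two).1 (hc2.dvd_of_dvd_mul_left h4)
  exact ⟨j, hj⟩

theorem step1 {q a b : ℕ} (hq : q.Prime)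
    (hcard : Nat.card G = 9 * 2 ^ a * q ^ b) (V : K3.Vec p p') (W : K3.Van G q) {j : Fin 3}
    (hj : j ≠ 0) : ¬ ∃ χ, p 0 χ ≠ 0 ∧ p j χ ≠ 0 := by
  intro hne
  obtain ⟨x, y, w, w', T, T', hx, hy, hw, hw'⟩ :=
    overlap (norm3 V 0) (norm3 V j) (orth V hj.symm) hne
  have h01 : p 0 (oneIrr G) = 1 := by rw [V.one 0]; simp
  have hj1 : p j (oneIrr G) = 0 := by rw [V.one j]; simp [hj]
  have hwo : w = oneIrr G := by
    rcases T.mem (u := oneIrr G) (by rw [h01]; decide) with h | h | h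
    · exact absurd (h ▸ hj1) T'.nx
    · exact absurd (h ▸ hj1) T'.ny
    · exact h.symm
  subst hwo
  obtain ⟨k, hk0, hkj, hsum⟩ := third hj
  have hk1 : p k (oneIrr G) = 0 := by rw [V.one k]; simp [hk0]
  have o1 := T.sum (fun u => p 0 u * p k u) (fun u hu => by simp [hu])
  rw [orth V hk0.symm] at o1
  have o2 := T'.sum (fun u => p j u * p k u) (fun u hu => by simp [hu])
  rw [orth V hkj.symm] at o2
  obtain ⟨k1, k2, k3, Tk⟩ := exists_T3 (norm3 V k)
  have hkx := Tk.entry x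
  have hky := Tk.entry y
  have hkw := Tk.entry w'
  have e1 := T.hx
  have e2 := T.hy
  have e3 := T'.hw
  have hkw0 : p k w' = 0 := by
    simp only [hk1, hx, hy] at o1 o2
    rcases e1 with e1 | e1 <;> rcases e2 with e2 | e2 <;> rcases e3 with e3 | e3 <;>
      simp only [e1, e2, e3] at o1 o2 <;> omega
  have hz : ∑ i, p i w' = p j w' := by rw [hsum, hw', hkw0]; ring
  have hmd := V.md w' (by rw [hz]; exact T'.nw)
  rw [hz] at hmd
  -- degrees
  have d1 := rel_deg V T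
  have d2 := rel_deg V T'
  rw [deg_one, h01, ] at d1
  rw [hx, hy] at d2
  have hn3 : ¬ 3 ∣ deg w' := by
    intro h
    obtain ⟨c, hc⟩ := hmd
    obtain ⟨c', hc'⟩ := h
    rw [hc'] at hc
    push_cast at hc
    rcases e3 with e3 | e3 <;> rw [e3] at hc <;> omega
  have hn2 : ¬ 2 ∣ deg w' := by
    intro h
    obtain ⟨c', hc'⟩ := h
    rw [hc'] at d2
    push_cast at d1 d2
    have d3 : 1 + 2 * (p 0 x * (deg x : ℤ)) + 2 * (p j w' * (c' : ℤ)) = 0 := by linarith
    omega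
  obtain ⟨β, _, hβ⟩ := qpow hq hn2 hn3 (hcard ▸ deg_dvd w')
  have hw1 : w' ≠ oneIrr G := by
    intro h
    exact T'.nw (h ▸ hj1)
  obtain ⟨x₀, _, hx3, hv⟩ := W
  have hv' := hv w' β hw1 hβ
  have r1 := rel V T x₀ hx3
  have r2 := rel V T' x₀ hx3
  rw [oneIrr_apply, h01] at r1
  rw [hx, hy, hv'] at r2
  push_cast at r1 r2
  apply half_not_integral ((x : G → ℂ) x₀) (irr_isIntegral x x₀) (p 0 x) e1
  linear_combination r1 + r2

theorem step2 {q a b : ℕ} (hq : q.Prime)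
    (hcard : Nat.card G = 9 * 2 ^ a * q ^ b) (V : K3.Vec p p') (W : K3.Van G q) :
    ¬ ∃ χ, p 1 χ ≠ 0 ∧ p 2 χ ≠ 0 := by
  intro hne
  obtain ⟨x, y, w, w', T, T', hx, hy, hw, hw'⟩ :=
    overlap (norm3 V 1) (norm3 V 2) (orth V (by decide)) hne
  have V' := vsymm V
  have h0x : p 0 x = 0 := by
    by_contra h
    exact step1 hq hcard V W (j := 1) (by decide) ⟨x, h, T.nx⟩
  have hs := V.sum x
  rw [Fin.sum_univ_three, Fin.sum_univ_three, h0x, hx] at hs
  obtain ⟨_, _, _, T0⟩ := exists_T3 (norm3 V' 0)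
  obtain ⟨_, _, _, T1⟩ := exists_T3 (norm3 V' 1)
  obtain ⟨_, _, _, T2⟩ := exists_T3 (norm3 V' 2)
  have a0 := T0.entry x
  have a1 := T1.entry x
  have a2 := T2.entry x
  have e1 := T.hx
  have e2 := T.hy
  have e3 := T.hw
  have e4 := T'.hw
  have hp0x : p' 0 x = 0 := by
    by_contra h
    have b1 : p' 1 x = 0 := by
      by_contra h1
      exact step1 hq hcard V' W (j := 1) (by decide) ⟨x, h, h1⟩
    have b2 : p' 2 x = 0 := by
      by_contra h1
      exact step1 hq hcard V' W (j := 2) (by decide) ⟨x, h, h1⟩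
    rw [b1, b2] at hs
    omega
  have c1 := T.sum (fun u => p 1 u * p' 0 u) (fun u hu => by simp [hu])
  rw [V.cross 1 0, hp0x] at c1
  have c2 := T'.sum (fun u => p 2 u * p' 0 u) (fun u hu => by simp [hu])
  rw [V.cross 2 0, hp0x, hy] at c2
  have a3 := T0.entry y
  have a4 := T0.entry w
  have a5 := T0.entry w'
  have key : p' 0 w = p 1 w ∧ p' 0 w' = p 2 w' ∧ p' 0 y = 0 := by
    rcases e2 with e2 | e2 <;> rcases e3 with e3 | e3 <;> rcases e4 with e4 | e4 <;>
      simp only [e2, e3, e4] at c1 c2 ⊢ <;> omega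
  obtain ⟨k1, k2, k3⟩ := key
  have hww : w ≠ w' := by
    intro h
    rw [← h] at hw'
    exact T.nw hw'
  have h1 : p' 0 (oneIrr G) = 1 := by rw [V.one' 0]; simp
  have h2 : p 1 (oneIrr G) = 0 := by rw [V.one 1]; simp
  have h3 : p 2 (oneIrr G) = 0 := by rw [V.one 2]; simp
  obtain ⟨o, To⟩ := exists_of_two (norm3 V' 0) hww (by rw [k1]; exact T.nw) (by rw [k2]; exact T'.nw)
  have ho : o = oneIrr G := by
    rcases To.mem (u := oneIrr G) (by rw [h1]; decide) with h | h | h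
    · exact absurd (h ▸ h2) T.nw
    · exact absurd (h ▸ h3) T'.nw
    · exact h.symm
  subst ho
  have d1 := rel_deg V T
  have d2 := rel_deg V T'
  have d3 := rel_deg V' To
  rw [deg_one, h1, k1, k2] at d3
  rw [hx, hy] at d2
  push_cast at d1 d2 d3
  have d4 : 1 = 2 * (p 1 x * (deg x : ℤ)) := by linarith
  omega

def Pr (q a : ℕ) (y : ℤ) : Prop := y.natAbs ∣ 9 * 2 ^ a * q ^ 1 ∧ ¬ 3 ∣ y.natAbs ∧ 1 < y.natAbs

theorem Pr.odd {q a : ℕ} {y : ℤ} (h : Pr q a y) (hq : q.Prime) (ho : y % 2 = 1) : y.natAbs = q := by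
  obtain ⟨j, hj, hy⟩ := qpow hq (n := y.natAbs) (by omega) h.2.1 h.1
  have h1 := h.2.2
  interval_cases j
  · rw [pow_zero] at hy; omega
  · simpa using hy

theorem arith {q a : ℕ} (hq : q.Prime) (hq2 : q ≠ 2) (hq3 : q ≠ 3) (A A' B B' m n m' n' : ℤ)
    (hA : A.natAbs = q) (hA' : A'.natAbs = q) (hB : ∃ i, B.natAbs = 2 ^ i)
    (hB' : ∃ i, B'.natAbs = 2 ^ i)
    (r0 : 1 + A + B = 0) (r1 : A' + m + n = 0) (r2 : B' + m' + n' = 0)
    (c1 : A + m + m' = 0) (c2 : B + n + n' = 0)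
    (Pm : Pr q a m) (Pn : Pr q a n) (Pm' : Pr q a m') (Pn' : Pr q a n') : False := by
  have hodd : q % 2 = 1 := hq.eq_two_or_odd.resolve_left hq2
  have h5 : 5 ≤ q := by
    have := hq.two_le
    have h4 : q ≠ 4 := by rintro rfl; omega
    omega
  have gm := Pm.2.2
  have gn := Pn.2.2
  have gm' := Pm'.2.2
  have gn' := Pn'.2.2
  rcases Int.emod_two_eq_zero_or_one m with he | ho
  · -- `m` even
    have e1 := Pn.odd hq (by omega)
    have e2 := Pm'.odd hq (by omega)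
    have e3 := Pn'.odd hq (by omega)
    obtain ⟨i, hi⟩ := hB'
    have h0 : B'.natAbs = 0 ∨ B'.natAbs = 2 * q := by omega
    rcases h0 with h0 | h0
    · rw [h0] at hi
      have := pow_pos (show 0 < 2 by norm_num) i
      omega
    · rw [h0] at hi
      have h1 : q ∣ 2 ^ i := ⟨2, by rw [← hi]; ring⟩
      have h2 := (Nat.prime_dvd_prime_iff_eq hq Nat.prime_two).1 (hq.dvd_of_dvd_pow h1)
      exact hq2 h2
  · have e1 := Pm.odd hq ho
    have e2 : m = A := by omega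
    have e3 : m = A' := by omega
    have hn' : n' = 1 + 3 * m := by omega
    have hqn : ¬ q ∣ n'.natAbs := by
      intro h
      have h1 : (q : ℤ) ∣ n' := by
        have := Int.natCast_dvd.2 h
        exact this
      have h2 : (q : ℤ) ∣ m := by
        apply Int.natCast_dvd.2
        rw [e1]
      have h3 : (q : ℤ) ∣ 1 := by
        have h4 := dvd_sub h1 (Dvd.dvd.mul_left h2 3)
        rwa [hn', add_sub_cancel_right] at h4
      have h4 : q ∣ 1 := by exact_mod_cast h3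
      have := Nat.le_of_dvd one_pos h4
      omega
    obtain ⟨d, hd⟩ := twopow hq hqn Pn'.2.1 Pn'.1
    obtain ⟨i, hi⟩ := hB
    have hd4 : 4 ∣ n'.natAbs := by
      rcases Nat.lt_or_ge d 2 with h | h
      · exfalso
        have : (2 : ℕ) ^ d ≤ 2 := by
          calc 2 ^ d ≤ 2 ^ 1 := Nat.pow_le_pow_right (by omega) (by omega)
            _ = 2 := by norm_num
        omega
      · rw [hd]
        exact pow_dvd_pow 2 h
    have hi4 : 4 ∣ B.natAbs := by
      rcases Nat.lt_or_ge i 2 with h | h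
      · exfalso
        have : (2 : ℕ) ^ i ≤ 2 := by
          calc 2 ^ i ≤ 2 ^ 1 := Nat.pow_le_pow_right (by omega) (by omega)
            _ = 2 := by norm_num
        omega
      · rw [hi]
        exact pow_dvd_pow 2 h
    omega

theorem disj {q a b : ℕ} (hq : q.Prime)
    (hcard : Nat.card G = 9 * 2 ^ a * q ^ b) (V : K3.Vec p p') (W : K3.Van G q) {i j : Fin 3}
    (hij : i ≠ j) (χ : IrrCharacter G) (hi : p i χ ≠ 0) : p j χ = 0 := by
  by_contra hj
  have s1 := step1 hq hcard V W (j := 1) (by decide)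
  have s2 := step1 hq hcard V W (j := 2) (by decide)
  have s3 := step2 hq hcard V W
  fin_cases i <;> fin_cases j
  · exact hij rfl
  · exact s1 ⟨χ, hi, hj⟩
  · exact s2 ⟨χ, hi, hj⟩
  · exact s1 ⟨χ, hj, hi⟩
  · exact hij rfl
  · exact s3 ⟨χ, hi, hj⟩
  · exact s2 ⟨χ, hj, hi⟩
  · exact s3 ⟨χ, hj, hi⟩
  · exact hij rfl

theorem sum_eq {f : Fin 3 → ℤ} (hd : ∀ i j, i ≠ j → f i ≠ 0 → f j = 0) {i : Fin 3} (hi : f i ≠ 0) :
    ∑ k, f k = f i := by
  apply Finset.sum_eq_single i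
  · intro b _ hb
    exact hd i b hb.symm hi
  · intro h
    exact absurd (Finset.mem_univ i) h

omit [Finite G] in
theorem row_T3 {v : IrrCharacter G → ℤ} (hv : ∑ χ, v χ * v χ = 3) {c : Fin 3 → IrrCharacter G}
    (hc : ∀ j, v (c j) ≠ 0) (hinj : ∀ i j, i ≠ j → c i ≠ c j) {k l m : Fin 3} (hkl : k ≠ l)
    (hkm : k ≠ m) (hlm : l ≠ m) : T3 v (c k) (c l) (c m) := by
  obtain ⟨w, hw⟩ := exists_of_two hv (hinj k l hkl) (hc k) (hc l)
  rcases hw.mem (hc m) with h | h | h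
  · exact absurd h.symm (hinj _ _ hkm)
  · exact absurd h.symm (hinj _ _ hlm)
  · rw [h]; exact hw

theorem contra {G : Type u} [Group G] [Finite G] [IsSimpleGroup G] [Fintype (IrrCharacter G)]
    (hG : ¬ IsMulCommutative G) {q a b : ℕ} (hq : q.Prime) (hq2 : q ≠ 2) (hq3 : q ≠ 3)
    (hcard : Nat.card G = 9 * 2 ^ a * q ^ b) {p p' : Fin 3 → IrrCharacter G → ℤ}
    (V : K3.Vec p p') (T : K3.Tri G q b) (W : K3.Van G q) : False := by
  have V' := vsymm V
  have D : ∀ χ i j, i ≠ j → p i χ ≠ 0 → p j χ = 0 := fun χ i j hij hi => disj hq hcard V W hij χ hi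
  have D' : ∀ χ i j, i ≠ j → p' i χ ≠ 0 → p' j χ = 0 :=
    fun χ i j hij hi => disj hq hcard V' W hij χ hi
  have hex : ∀ i j, ∃ χ, p i χ ≠ 0 ∧ p' j χ ≠ 0 := by
    intro i j
    by_contra hn
    push Not at hn
    have h1 := V.cross i j
    rw [Finset.sum_eq_zero] at h1
    · exact absurd h1 (by decide)
    · intro χ _
      by_cases h : p i χ = 0
      · rw [h, zero_mul]
      · rw [hn χ h, mul_zero]
  choose c hc hc' using hex
  have hs : ∀ i j, p i (c i j) = p' j (c i j) := by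
    intro i j
    have h1 := sum_eq (f := fun k => p k (c i j)) (fun k l h => D (c i j) k l h) (i := i) (hc i j)
    have h2 := sum_eq (f := fun k => p' k (c i j)) (fun k l h => D' (c i j) k l h) (i := j) (hc' i j)
    have h3 := V.sum (c i j)
    rw [h1, h2] at h3
    exact h3
  have hrow : ∀ i j k, j ≠ k → c i j ≠ c i k := by
    intro i j k hjk h
    exact hc' i k (h ▸ D' (c i j) j k hjk (hc' i j))
  have hcol : ∀ j i k, i ≠ k → c i j ≠ c k j := by
    intro j i k hik h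
    exact hc k j (h ▸ D (c i j) i k hik (hc i j))
  have R : ∀ i k l m, k ≠ l → k ≠ m → l ≠ m → T3 (p i) (c i k) (c i l) (c i m) := fun i k l m h1 h2 h3 =>
    row_T3 (norm3 V i) (c := c i) (hc i) (hrow i) h1 h2 h3
  have C : ∀ j k l m, k ≠ l → k ≠ m → l ≠ m → T3 (p' j) (c k j) (c l j) (c m j) :=
    fun j k l m h1 h2 h3 =>
    row_T3 (norm3 V' j) (c := fun i => c i j) (fun i => hc' i j) (hcol j) h1 h2 h3
  have h00 : c 0 0 = oneIrr G := by
    have h1 : p 0 (oneIrr G) ≠ 0 := by rw [V.one 0]; simp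
    rcases (R 0 0 1 2 (by decide) (by decide) (by decide)).mem h1 with h | h | h
    · exact h.symm
    · exfalso
      apply hc' 0 1
      rw [← h, V.one' 1]
      simp
    · exfalso
      apply hc' 0 2
      rw [← h, V.one' 2]
      simp
  have hne1 : ∀ i j, i ≠ 0 → c i j ≠ oneIrr G := by
    intro i j hi h
    apply hc i j
    rw [h, V.one i]
    simp [hi]
  have hne2 : ∀ i j, j ≠ 0 → c i j ≠ oneIrr G := by
    intro i j hi h
    apply hc' i j
    rw [h, V.one' j]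
    simp [hi]
  have ent : ∀ i j, p i (c i j) = 1 ∨ p i (c i j) = -1 := by
    intro i j
    obtain ⟨_, _, _, h⟩ := exists_T3 (norm3 V i)
    exact (h.entry _).resolve_left (hc i j)
  have h3 : ∀ i j, ¬ 3 ∣ deg (c i j) := by
    intro i j h
    have h1 := sum_eq (f := fun k => p k (c i j)) (fun k l h => D (c i j) k l h) (i := i) (hc i j)
    have h2 := V.md (c i j) (by rw [h1]; exact hc i j)
    rw [h1] at h2
    rcases ent i j with e | e <;> simp only [e] at h2 <;> omega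
  have hp00 : p 0 (c 0 0) = 1 := by rw [h00, V.one 0]; simp
  have hp00' : p' 0 (c 0 0) = 1 := by rw [h00, V.one' 0]; simp
  have t1 := T (c 0 1) (c 0 2) (p 0 (c 0 1)) (p 0 (c 0 2)) (ent 0 1) (ent 0 2)
    (hne2 _ _ (by decide)) (hne2 _ _ (by decide)) (h3 _ _) (h3 _ _) (fun g hg => by
      have h := rel V (R 0 0 1 2 (by decide) (by decide) (by decide)) g hg
      rw [hp00, h00, oneIrr_apply] at h
      push_cast at h
      rw [one_mul] at h
      exact h)
  have t2 := T (c 1 0) (c 2 0) (p' 0 (c 1 0)) (p' 0 (c 2 0)) (hs 1 0 ▸ ent 1 0) (hs 2 0 ▸ ent 2 0)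
    (hne1 _ _ (by decide)) (hne1 _ _ (by decide)) (h3 _ _) (h3 _ _) (fun g hg => by
      have h := rel V' (C 0 0 1 2 (by decide) (by decide) (by decide)) g hg
      rw [hp00', h00, oneIrr_apply] at h
      push_cast at h
      rw [one_mul] at h
      exact h)
  obtain ⟨hb, t1⟩ := t1
  obtain ⟨-, t2⟩ := t2
  subst hb
  set Y : Fin 3 → Fin 3 → ℤ := fun i j => p i (c i j) * deg (c i j) with hY
  have Yabs : ∀ i j, (Y i j).natAbs = deg (c i j) := by
    intro i j
    simp only [hY]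
    rcases ent i j with e | e <;> rw [e] <;> simp
  have Yrow : ∀ i k l m, k ≠ l → k ≠ m → l ≠ m → Y i k + Y i l + Y i m = 0 := fun i k l m h1 h2 h3 =>
    rel_deg V (R i k l m h1 h2 h3)
  have Ycol : ∀ j k l m, k ≠ l → k ≠ m → l ≠ m → Y k j + Y l j + Y m j = 0 := fun j k l m h1 h2 h3 => by
    have h := rel_deg V' (C j k l m h1 h2 h3)
    rw [← hs, ← hs, ← hs] at h
    exact h
  have Y00 : Y 0 0 = 1 := by
    simp only [hY]
    rw [hp00, h00, deg_one]
    simp
  have YP : ∀ i j, i ≠ 0 → Pr q a (Y i j) := by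
    intro i j hi
    refine ⟨?_, ?_, ?_⟩
    · rw [Yabs, ← hcard]; exact deg_dvd _
    · rw [Yabs]; exact h3 i j
    · rw [Yabs]
      have h1 := deg_pos (c i j)
      have h2 : deg (c i j) ≠ 1 := fun h => hne1 i j hi (lin_one hG _ h)
      omega
  have fin : ∀ i1 i2 j1 j2 : Fin 3, i1 ≠ 0 → i2 ≠ 0 → i1 ≠ i2 → j1 ≠ 0 → j2 ≠ 0 → j1 ≠ j2 →
      deg (c 0 j1) = q → (∃ i, deg (c 0 j2) = 2 ^ i) → deg (c i1 0) = q →
      (∃ i, deg (c i2 0) = 2 ^ i) → False := by
    intro i1 i2 j1 j2 hi1 hi2 hi hj1 hj2 hj a1 a2 a3 a4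
    have r0 := Yrow 0 0 j1 j2 hj1.symm hj2.symm hj
    have r1 := Yrow i1 0 j1 j2 hj1.symm hj2.symm hj
    have r2 := Yrow i2 0 j1 j2 hj1.symm hj2.symm hj
    have c1 := Ycol j1 0 i1 i2 hi1.symm hi2.symm hi
    have c2 := Ycol j2 0 i1 i2 hi1.symm hi2.symm hi
    rw [Y00] at r0
    exact arith hq hq2 hq3 (Y 0 j1) (Y i1 0) (Y 0 j2) (Y i2 0) (Y i1 j1) (Y i1 j2) (Y i2 j1) (Y i2 j2)
      (by rw [Yabs]; exact a1) (by rw [Yabs]; exact a3) (by simpa only [Yabs] using a2)
      (by simpa only [Yabs] using a4) r0 r1 r2 c1 c2 (YP _ _ hi1) (YP _ _ hi1) (YP _ _ hi2)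
      (YP _ _ hi2)
  rcases t1 with ⟨a1, a2⟩ | ⟨a1, a2⟩ <;> rcases t2 with ⟨a3, a4⟩ | ⟨a3, a4⟩
  · exact fin 1 2 1 2 (by decide) (by decide) (by decide) (by decide) (by decide) (by decide) a1 a2 a3 a4
  · exact fin 2 1 1 2 (by decide) (by decide) (by decide) (by decide) (by decide) (by decide) a1 a2 a3 a4
  · exact fin 1 2 2 1 (by decide) (by decide) (by decide) (by decide) (by decide) (by decide) a1 a2 a3 a4
  · exact fin 2 1 2 1 (by decide) (by decide) (by decide) (by decide) (by decide) (by decide) a1 a2 a3 a4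

end Cfsg.Agent.H89.K3Contra
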