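import Mathlib

/-! # Integer vectors of norm 3 (helper89, for S2219) -/

set_option autoImplicit false

namespace Cfsg.Agent.H89.K3Contra

section Vect

variable {X : Type*}

structure T3 (v : X → ℤ) (x y w : X) : Prop where
  xy : x ≠ y
  xw : x ≠ w
  yw : y ≠ w
  hx : v x = 1 ∨ v x = -1
  hy : v y = 1 ∨ v y = -1
  hw : v w = 1 ∨ v w = -1
  off : ∀ u, u ≠ x → u ≠ y → u ≠ w → v u = 0

theorem T3.swap12 {v : X → ℤ} {x y w : X} (h : T3 v x y w) : T3 v y x w :=
  ⟨h.xy.symm, h.yw, h.xw, h.hy, h.hx, h.hw, fun u a b c => h.off u b a c⟩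

theorem T3.swap23 {v : X → ℤ} {x y w : X} (h : T3 v x y w) : T3 v x w y :=
  ⟨h.xw, h.xy, h.yw.symm, h.hx, h.hw, h.hy, fun u a b c => h.off u a c b⟩

theorem T3.mem {v : X → ℤ} {x y w : X} (h : T3 v x y w) {u : X} (hu : v u ≠ 0) :
    u = x ∨ u = y ∨ u = w := by
  by_contra hn
  push Not at hn
  exact hu (h.off u hn.1 hn.2.1 hn.2.2)

theorem T3.entry {v : X → ℤ} {x y w : X} (h : T3 v x y w) (u : X) :
    v u = 0 ∨ v u = 1 ∨ v u = -1 := by
  by_cases hu : v u = 0
  · exact Or.inl hu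
  · right
    rcases h.mem hu with rfl | rfl | rfl
    · exact h.hx
    · exact h.hy
    · exact h.hw

theorem T3.nx {v : X → ℤ} {x y w : X} (h : T3 v x y w) : v x ≠ 0 := by
  rcases h.hx with h | h <;> rw [h] <;> decide

theorem T3.ny {v : X → ℤ} {x y w : X} (h : T3 v x y w) : v y ≠ 0 := h.swap12.nx

theorem T3.nw {v : X → ℤ} {x y w : X} (h : T3 v x y w) : v w ≠ 0 := h.swap23.swap12.nx

variable [Fintype X]

theorem T3.sum {R : Type*} [AddCommMonoid R] {v : X → ℤ} {x y w : X} (h : T3 v x y w) (f : X → R)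
    (hf : ∀ u, v u = 0 → f u = 0) : ∑ u, f u = f x + f y + f w := by
  classical
  have h1 : ∑ u ∈ ({x, y, w} : Finset X), f u = ∑ u, f u := by
    apply Finset.sum_subset (Finset.subset_univ _)
    intro u _ hu
    simp only [Finset.mem_insert, Finset.mem_singleton, not_or] at hu
    exact hf u (h.off u hu.1 hu.2.1 hu.2.2)
  rw [← h1, Finset.sum_insert, Finset.sum_insert, Finset.sum_singleton, add_assoc]
  · simpa using h.yw
  · simp [h.xy, h.xw]

theorem exists_T3 {v : X → ℤ} (hv : ∑ u, v u * v u = 3) : ∃ x y w, T3 v x y w := by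
  classical
  have hle : ∀ u, v u * v u ≤ 3 := by
    intro u
    rw [← hv]
    exact Finset.single_le_sum (f := fun u => v u * v u) (fun i _ => mul_self_nonneg _)
      (Finset.mem_univ u)
  have hent : ∀ u, v u = 0 ∨ v u = 1 ∨ v u = -1 := by
    intro u
    have h1 := hle u
    have h2 : v u < 2 := by nlinarith
    have h3 : -2 < v u := by nlinarith
    omega
  have hcard : (Finset.univ.filter (fun u => v u ≠ 0)).card = 3 := by
    have h1 : ∑ u, v u * v u = ∑ u, (if v u ≠ 0 then (1 : ℤ) else 0) := by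
      apply Finset.sum_congr rfl
      intro u _
      rcases hent u with h | h | h <;> simp [h]
    rw [hv] at h1
    have h2 : ∑ u, (if v u ≠ 0 then (1 : ℤ) else 0)
        = ((Finset.univ.filter (fun u => v u ≠ 0)).card : ℤ) := by
      rw [Finset.sum_ite]
      simp
    rw [h2] at h1
    exact_mod_cast h1.symm
  obtain ⟨x, y, w, hxy, hxw, hyw, he⟩ := Finset.card_eq_three.mp hcard
  have hm : ∀ u, v u ≠ 0 ↔ u = x ∨ u = y ∨ u = w := by
    intro u
    have : u ∈ Finset.univ.filter (fun u => v u ≠ 0) ↔ u ∈ ({x, y, w} : Finset X) := by rw [he]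
    simpa using this
  refine ⟨x, y, w, hxy, hxw, hyw, ?_, ?_, ?_, ?_⟩
  · exact (hent x).resolve_left ((hm x).2 (Or.inl rfl))
  · exact (hent y).resolve_left ((hm y).2 (Or.inr (Or.inl rfl)))
  · exact (hent w).resolve_left ((hm w).2 (Or.inr (Or.inr rfl)))
  · intro u a b c
    by_contra hu
    rcases (hm u).1 hu with h | h | h
    · exact a h
    · exact b h
    · exact c h

theorem exists_of_one {v : X → ℤ} (hv : ∑ u, v u * v u = 3) {x : X} (hx : v x ≠ 0) :
    ∃ y w, T3 v x y w := by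
  obtain ⟨a, b, c, h⟩ := exists_T3 hv
  rcases h.mem hx with rfl | rfl | rfl
  · exact ⟨_, _, h⟩
  · exact ⟨_, _, h.swap12⟩
  · exact ⟨_, _, h.swap23.swap12⟩

theorem exists_of_two {v : X → ℤ} (hv : ∑ u, v u * v u = 3) {x y : X} (hxy : x ≠ y) (hx : v x ≠ 0)
    (hy : v y ≠ 0) : ∃ w, T3 v x y w := by
  obtain ⟨b, c, h⟩ := exists_of_one hv hx
  rcases h.mem hy with rfl | rfl | rfl
  · exact absurd rfl hxy
  · exact ⟨_, h⟩
  · exact ⟨_, h.swap23⟩

theorem overlap {v v' : X → ℤ} (hv : ∑ u, v u * v u = 3) (hv' : ∑ u, v' u * v' u = 3)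
    (h0 : ∑ u, v u * v' u = 0) (hne : ∃ x, v x ≠ 0 ∧ v' x ≠ 0) :
    ∃ x y w w', T3 v x y w ∧ T3 v' x y w' ∧ v' x = v x ∧ v' y = - v y ∧ v' w = 0 ∧ v w' = 0 := by
  obtain ⟨x, hx, hx'⟩ := hne
  obtain ⟨a, b, c, h'⟩ := exists_T3 hv'
  have key : ∃ y w, T3 v x y w ∧ v' w = 0 ∧ v x * v' x + v y * v' y = 0 := by
    obtain ⟨y, w, h⟩ := exists_of_one hv hx
    have hs := h.sum (fun u => v u * v' u) (fun u hu => by simp [hu])
    rw [h0] at hs
    have e1 := h.hx
    have e2 := h.hy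
    have e3 := h.hw
    have e4 : v' x = 1 ∨ v' x = -1 := (h'.entry x).resolve_left hx'
    have e5 := h'.entry y
    have e6 := h'.entry w
    by_cases h6 : v' w = 0
    · refine ⟨y, w, h, h6, ?_⟩
      simp only [h6] at hs
      linarith
    · have h6' := e6.resolve_left h6
      have h5 : v' y = 0 := by
        by_contra h5
        have h5' := e5.resolve_left h5
        rcases e1 with e1 | e1 <;> rcases e2 with e2 | e2 <;> rcases e3 with e3 | e3 <;>
        rcases e4 with e4 | e4 <;> rcases h5' with h5' | h5' <;> rcases h6' with h6' | h6' <;>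
        simp [e1, e2, e3, e4, h5', h6'] at hs
      refine ⟨w, y, h.swap23, h5, ?_⟩
      simp only [h5] at hs
      linarith
  obtain ⟨y, w, h, hw, hs⟩ := key
  have hy' : v' y ≠ 0 := by
    intro hy'
    rw [hy'] at hs
    have : v x * v' x = 0 := by linarith
    rcases mul_eq_zero.mp this with h1 | h1
    · exact hx h1
    · exact hx' h1
  obtain ⟨w', h''⟩ := exists_of_two hv' h.xy hx' hy'
  have hw' : v w' = 0 := by
    apply h.off _ h''.xw.symm h''.yw.symm
    intro h1
    rw [h1] at h''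
    exact h''.nw hw
  rcases h.hx with e1 | e1 <;> rcases h''.hx with e2 | e2 <;> rcases h.hy with e3 | e3 <;>
    rcases h''.hy with e4 | e4 <;> first
    | (exfalso; simp [e1, e2, e3, e4] at hs; done)
    | (refine ⟨x, y, w, w', h, h'', ?_, ?_, hw, hw'⟩ <;> omega)
    | (refine ⟨y, x, w, w', h.swap12, h''.swap12, ?_, ?_, hw, hw'⟩ <;> omega)

end Vect

end Cfsg.Agent.H89.K3Contra
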